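import Mathlib
import Cfsg.Agent.Lib.ON.Short

/-! Suborbits and normal closure certificates for the action on 122760 points (generated). -/

set_option maxRecDepth 100000
set_option Elab.async false

namespace CfsgLib.ON

open CfsgLib.CosetEnum

def subs : List Sub := [⟨[1], 1, [1, 2, 3, 4, 0, 1, 3, 5, 2, 3, 1, 0, 4, 2, 3, 1, 5, 2, 4, 0, 3, 1, 5, 4, 2, 0, 5, 3, 1, 2, 4, 0, 1, 3, 5, 2, 4, 1, 3, 4], [0, 2, 3, 4, 5, 0, 4, 6, 3, 2, 1, 0, 4, 5, 2, 3, 0, 4, 5, 0, 2, 3, 6, 4, 5, 0, 2, 1, 0, 2]⟩,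
  ⟨[1, 4, 1], 9, [0, 2, 1, 3, 0, 2, 4, 1, 3, 5, 0, 2, 4, 1, 3, 5, 0, 2, 4, 5, 1, 3, 0, 2, 4, 1, 3, 5, 0, 4, 2, 5, 3, 1, 4, 2, 0, 3, 1, 5, 2, 4, 3, 1, 0, 5, 1, 4, 2, 3], [0, 1, 3, 2, 4, 1, 3, 5, 2, 4, 6, 1, 3, 5, 0, 2, 3, 4, 5, 3, 2, 1, 6, 4, 3, 2, 5, 4, 3, 5, 6, 4, 2, 1, 5, 3, 2, 4, 3, 6, 5, 4, 2, 3, 4, 5]⟩,
  ⟨[1, 6, 1], 5, [1, 0, 2, 3, 1, 2, 4, 1, 5, 3, 0, 2, 4, 1, 3, 0, 4, 5, 2, 3, 1, 4, 2, 0, 1, 3, 5, 0, 2, 4, 3, 1, 4, 2, 5, 3, 2, 4, 1, 3, 2, 3, 4], [0, 2, 1, 3, 4, 0, 2, 3, 5, 2, 1, 4, 6, 3, 5, 2, 4, 1, 3, 6, 5, 0, 2, 1, 3, 4, 5, 3, 6, 2, 4, 3, 5, 1, 4, 2, 6, 3, 5, 1, 4, 2, 3, 5, 2, 4, 3, 4, 5]⟩,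
  ⟨[1, 8, 4, 1], 14, [0, 2, 4, 3, 1, 5, 2, 4, 0, 1, 3, 5, 0, 4, 2, 5, 1, 3, 0, 2, 4, 1, 3, 0, 2, 4, 5, 3, 1, 4, 3], [0, 1, 3, 5, 4, 2, 6, 3, 5, 1, 2, 4, 6, 1, 5, 3, 6, 2, 4, 0, 5, 3, 1, 4, 6, 2, 3, 5, 4, 2, 1, 3, 5, 6, 2, 4, 1]⟩]
theorem cover_ok : subB (Nat.sub (Nat.shiftLeft 1 122760) 1) (cover nets hs subs (Nat.shiftLeft 1 0)) = true := by decide +kernel
theorem sub0_ok : Sub.check nets (imOf [1, 2, 3, 4, 5, 6]) top hs 0 (Nat.sub (Nat.shiftLeft 1 122760) 1) (subs.getD 0 ⟨[], 0, [], []⟩) = true := by decide +kernel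
theorem sub1_ok : Sub.check nets (imOf [1, 2, 3, 4, 5, 6]) top hs 0 (Nat.sub (Nat.shiftLeft 1 122760) 1) (subs.getD 1 ⟨[], 0, [], []⟩) = true := by decide +kernel
theorem sub2_ok : Sub.check nets (imOf [1, 2, 3, 4, 5, 6]) top hs 0 (Nat.sub (Nat.shiftLeft 1 122760) 1) (subs.getD 2 ⟨[], 0, [], []⟩) = true := by decide +kernel
theorem sub3_ok : Sub.check nets (imOf [1, 2, 3, 4, 5, 6]) top hs 0 (Nat.sub (Nat.shiftLeft 1 122760) 1) (subs.getD 3 ⟨[], 0, [], []⟩) = true := by decide +kernel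
def nclX : List ℕ := [1, 8, 6, 4]
def nclL : List NclI := [⟨[10, 1, 8, 0, 10, 4, 0, 1, 4], 3, 4⟩, ⟨[0, 0, 4, 6, 2, 8, 6, 4], 3, 2⟩, ⟨[0, 4, 6, 8, 6], 3, 2⟩, ⟨[10, 10, 6, 0], 7, 2⟩, ⟨[10, 8, 8], 11, 2⟩, ⟨[1], 11, 2⟩, ⟨[1, 10], 11, 2⟩]
theorem ncl_fix0 : allL (fun w => fixesP nets (expand (imOf [1, 2, 3, 4, 5, 6]) top w) 0) (powW nclX 5 :: nclW nclX nclL 0) = true := by decide +kernel
theorem ncl_fix3 : allL (fun w => fixesP nets (expand (imOf [1, 2, 3, 4, 5, 6]) top w) 3) (powW nclX 5 :: nclW nclX nclL 0) = true := by decide +kernel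
theorem ncl_fix593 : allL (fun w => fixesP nets (expand (imOf [1, 2, 3, 4, 5, 6]) top w) 593) (powW nclX 5 :: nclW nclX nclL 0) = true := by decide +kernel
theorem orb_full : Nat.beq (bfs nets top [0, 2, 3, 4, 5, 0, 2, 4, 3, 6, 1, 2, 4, 5, 0, 3, 4, 0, 2, 5, 3, 0, 4, 2, 1, 0, 5, 3, 2, 4] (Nat.shiftLeft 1 0)) (Nat.sub (Nat.shiftLeft 1 122760) 1) = true := by decide +kernel
theorem fix_ok : allL (fun w => fixesP nets w 0) hs = true := by decide +kernel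
def hints1 : List ℕ := [1025, 2049, 3073, 4097, 5121, 8193, 9217, 10241, 11265, 15361, 16385, 17409, 22529, 23553, 29697, 36865, 37889, 38913, 39937, 40961, 41985, 43009]
def hints2 : List ℕ := [22528, 1, 1025, 2049, 3073, 4097, 0, 22528, 5121, 6145, 7169, 8193, 1024, 5120, 22528, 9217, 10241, 11265, 2048, 6144, 9216, 22528, 12289, 13313, 3072, 7168, 10240, 12288, 22528, 14337, 4096, 8192, 11264, 13312, 14336, 22528, 15361, 16385, 17409, 18433, 19457, 20481, 21505]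

end CfsgLib.ON
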