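import Mathlib
import Cfsg.Agent.Lib.ON.Net0
import Cfsg.Agent.Lib.ON.Net1

/-! Swap networks for the action of the O'Nan group on 122760 points (generated). -/

set_option maxRecDepth 100000
set_option Elab.async false

namespace CfsgLib.ON

open CfsgLib.CosetEnum

def nets_n0 : Net :=
  (Net.cons nets_n0_0 (nat_lit 1) (Net.cons nets_n0_1 (nat_lit 2) (Net.cons nets_n0_2 (nat_lit 1) Net.nil)))
def nets_n1 : Net :=
  (Net.cons nets_n1_0 (nat_lit 1) (Net.cons nets_n1_1 (nat_lit 2) (Net.cons nets_n1_2 (nat_lit 4) (Net.cons nets_n1_3 (nat_lit 2) (Net.cons nets_n1_4 (nat_lit 1) Net.nil)))))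
def nets_n2 : Net :=
  (Net.cons nets_n2_0 (nat_lit 1) (Net.cons nets_n2_1 (nat_lit 2) (Net.cons nets_n2_2 (nat_lit 4) (Net.cons nets_n2_3 (nat_lit 8) (Net.cons nets_n2_4 (nat_lit 16) (Net.cons nets_n2_5 (nat_lit 32) (Net.cons nets_n2_6 (nat_lit 64) (Net.cons nets_n2_7 (nat_lit 128) (Net.cons nets_n2_8 (nat_lit 256) (Net.cons nets_n2_9 (nat_lit 512) (Net.cons nets_n2_10 (nat_lit 1024) (Net.cons nets_n2_11 (nat_lit 2048) (Net.cons nets_n2_12 (nat_lit 4096) (Net.cons nets_n2_13 (nat_lit 8192) (Net.cons nets_n2_14 (nat_lit 16384) (Net.cons nets_n2_15 (nat_lit 32768) (Net.cons nets_n2_16 (nat_lit 16384) (Net.cons nets_n2_17 (nat_lit 8192) (Net.cons nets_n2_18 (nat_lit 4096) (Net.cons nets_n2_19 (nat_lit 2048) (Net.cons nets_n2_20 (nat_lit 1024) (Net.cons nets_n2_21 (nat_lit 512) (Net.cons nets_n2_22 (nat_lit 256) (Net.cons nets_n2_23 (nat_lit 128) (Net.cons nets_n2_24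 (nat_lit 64) (Net.cons nets_n2_25 (nat_lit 32) (Net.cons nets_n2_26 (nat_lit 16) (Net.cons nets_n2_27 (nat_lit 8) (Net.cons nets_n2_28 (nat_lit 4) (Net.cons nets_n2_29 (nat_lit 2) (Net.cons nets_n2_30 (nat_lit 1) Net.nil)))))))))))))))))))))))))))))))
def nets_n3 : Net :=
  (Net.cons nets_n3_0 (nat_lit 1) (Net.cons nets_n3_1 (nat_lit 2) (Net.cons nets_n3_2 (nat_lit 4) (Net.cons nets_n3_3 (nat_lit 8) (Net.cons nets_n3_4 (nat_lit 16) (Net.cons nets_n3_5 (nat_lit 32) (Net.cons nets_n3_6 (nat_lit 64) (Net.cons nets_n3_7 (nat_lit 128) (Net.cons nets_n3_8 (nat_lit 64) (Net.cons nets_n3_9 (nat_lit 32) (Net.cons nets_n3_10 (nat_lit 16) (Net.cons nets_n3_11 (nat_lit 8) (Net.cons nets_n3_12 (nat_lit 4) (Net.cons nets_n3_13 (nat_lit 2) (Net.cons nets_n3_14 (nat_lit 1) Net.nil)))))))))))))))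
def nets_n4 : Net :=
  (Net.cons nets_n4_0 (nat_lit 1) (Net.cons nets_n4_1 (nat_lit 2) (Net.cons nets_n4_2 (nat_lit 4) (Net.cons nets_n4_3 (nat_lit 8) (Net.cons nets_n4_4 (nat_lit 16) (Net.cons nets_n4_5 (nat_lit 8) (Net.cons nets_n4_6 (nat_lit 4) (Net.cons nets_n4_7 (nat_lit 2) (Net.cons nets_n4_8 (nat_lit 1) Net.nil)))))))))
def nets_n5 : Net :=
  (Net.cons nets_n5_0 (nat_lit 1) (Net.cons nets_n5_1 (nat_lit 2) (Net.cons nets_n5_2 (nat_lit 4) (Net.cons nets_n5_3 (nat_lit 8) (Net.cons nets_n5_4 (nat_lit 16) (Net.cons nets_n5_5 (nat_lit 32) (Net.cons nets_n5_6 (nat_lit 64) (Net.cons nets_n5_7 (nat_lit 128) (Net.cons nets_n5_8 (nat_lit 256) (Net.cons nets_n5_9 (nat_lit 512) (Net.cons nets_n5_10 (nat_lit 1024) (Net.cons nets_n5_11 (nat_lit 2048) (Net.cons nets_n5_12 (nat_lit 4096) (Net.cons nets_n5_13 (nat_lit 8192) (Net.cons nets_n5_14 (nat_lit 16384) (Net.cons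 nets_n5_15 (nat_lit 32768) (Net.cons nets_n5_16 (nat_lit 65536) (Net.cons nets_n5_17 (nat_lit 32768) (Net.cons nets_n5_18 (nat_lit 16384) (Net.cons nets_n5_19 (nat_lit 8192) (Net.cons nets_n5_20 (nat_lit 4096) (Net.cons nets_n5_21 (nat_lit 2048) (Net.cons nets_n5_22 (nat_lit 1024) (Net.cons nets_n5_23 (nat_lit 512) (Net.cons nets_n5_24 (nat_lit 256) (Net.cons nets_n5_25 (nat_lit 128) (Net.cons nets_n5_26 (nat_lit 64) (Net.cons nets_n5_27 (nat_lit 32) (Net.cons nets_n5_28 (nat_lit 16) (Net.cons nets_n5_29 (nat_lit 8) (Net.cons nets_n5_30 (nat_lit 4) (Net.cons nets_n5_31 (nat_lit 2) (Net.cons nets_n5_32 (nat_lit 1) Net.nil)))))))))))))))))))))))))))))))))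
def nets_n6 : Net :=
  (Net.cons nets_n6_0 (nat_lit 1) (Net.cons nets_n6_1 (nat_lit 2) (Net.cons nets_n6_2 (nat_lit 4) (Net.cons nets_n6_3 (nat_lit 2) (Net.cons nets_n6_4 (nat_lit 1) Net.nil)))))
def nets : List Net := [nets_n0, nets_n1, nets_n2, nets_n3, nets_n4, nets_n5, nets_n6]
theorem nets_ok : allL (Net.ok 122760) nets = true := by decide +kernel
def R0 : List (List ℕ) := [[2, 4, 2, 4, 2, 4],
  [2, 6, 2, 6],
  [2, 8, 2, 8],
  [2, 10, 2, 10],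
  [2, 12, 2, 12],
  [4, 6, 4, 6, 4, 6],
  [4, 8, 4, 8],
  [4, 10, 4, 10],
  [4, 12, 4, 12],
  [6, 8, 6, 8, 6, 8, 6, 8, 6, 8, 6, 8, 6, 8, 6, 8],
  [6, 10, 6, 10],
  [6, 12, 6, 12],
  [8, 10, 8, 10, 8, 10],
  [8, 12, 8, 12],
  [10, 12, 10, 12, 10, 12],
  [2, 12, 1, 1],
  [2, 12, 8, 6, 8, 6, 8, 6, 8, 6],
  [6, 1, 8, 1, 8, 6, 8, 0, 8, 0],
  [8, 1, 6, 1, 6, 8, 6, 0, 6, 0],
  [4, 6, 8, 0, 4, 6, 8, 0, 4, 6, 8, 0, 4, 6, 8, 0, 4, 6, 8, 0],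
  [0, 4, 6, 0, 6, 4, 0, 4, 6, 0, 6],
  [0, 10, 8, 0, 8, 10, 0, 10, 8, 0, 8]]

end CfsgLib.ON
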